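import Cfsg.Agent.Lib.Calc.CosetFin
import Cfsg.Prelude.Def_Spor_J4
import Cfsg.Prelude.Def_Spor_Th
import Cfsg.Prelude.Def_Spor_B
import Cfsg.Prelude.Def_Spor_M

/-! The presented groups `J₄`, `Th`, `B`, `M` are commutative or have elements of order four. -/

set_option autoImplicit false
set_option maxRecDepth 1000000

namespace Cfsg.Lib.KList

open Cfsg.Lib.Calc Cfsg.Spor

def jrels : List W := [.pow (.l 2) 3, .pow (.mul (.l 1) (.l 2)) 23, .pow (.mul (.mul (.mul (.inv (.l 1)) (.inv (.l 2))) (.l 1)) (.l 2)) 6, .pow (.mul (.mul (.l 1) (.l 2)) (.pow (.mul (.mul (.mul (.l 1) (.l 2)) (.l 1)) (.inv (.l 2))) 3)) 2]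
def jiv : ℕ := (nat_lit 68640)
def jtc_F : Tr := .leaf (nat_lit 0x18010000000300000208008008308200000100400200500308208508308400500600700400100a00000f00000e00000c00300800c00e00f00c00f00e00200d00a01100a01300601201800600603c00b01a01803c00a04c01002201602f00f03f01502e01404001d03b01c04b02504a0320590c00cb05004b04005a1381b70610371e113804603803805503704709809602b04502a04402001601f03601801e01702901102800c03500804300404800503900902c19a11300e02101901301a01b02202302f03003c03d04c04d03f04111d1a503203302602501d02401503101003e00b04e00605d0c80c305704304805303905f0bf0cc04f04c03f05b0c10cd05104d04105c0c70c40560440470540380600de0e21cb14a1c013f1af12e1a91281a71261a512419a11919811719611518d10c18b10a1851041831021621d81e11551601d41df15315e1d21dd14e0dc0cd0db0cc0da0cb0d90ca0d80c90d70c80d60c70d50c50d40c40d30c30d20c20d10c10d00c00cf0bf0ce0be1cd13d1cc13c14b1bb1ca13b1c913a1481b91c71381461b71451b61c41361431b51c21341c11331401b21bf13213e1b10bd0b00bc0af0bb0ae0ba0ad0b90ac0b80ab0b70aa0b60a90b50a80b40a70b30a60b20a50b10a41301a312f1a21ae12212d1a11ac12112b19f1aa11f12919e1a811e12719d1a611d12519c1a411c0a309b0a209a0a10990a009809f09709e09609d09509c09419b11311a19219911211819119711111619019511019410f09308e09208d09108c09008b08f08a10e18910d18818c10810b18618a106089085088084087083086082105181184101103180182100081080000000)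
def jtc_T : Tr := .leaf (nat_lit 0x18b0e0bf7aedcb76acd8af5aad4a74a8d09f3a6cc972a4c88f1a2c4870a0c07ef9ebc76e9cb86ed9ab466c98b05eb96ac56a94a84e992a446890a03e78e9c3668c982e58a9426488901e3868c16284880e182840608080)
def jtc_P : Tr := .node (.node (.leaf (nat_lit 0x3ec0c57004109d808860081576ff0bc0105ae9387c3112070280f32c422d1e944d6877ea40e458210c8481a08020040506c0801bed5c0000aa77cabe008157ef748c0105af94c8635140782c103283e291c92cca7f7a260f05e22348865939c00013cd3c0000ab778a7e008156c983c17888d22196cea9358b15c2bc52210d04e1d0a840ca0f8a4724b329fe0480ddaa2000055cbad470040ab84d1e8c0461b09838126404436251990cb67549ac58ae15e29108686b19d0703406e75600002aa5caad8020560b8d1f00410c054220d8521e338764f34a154abd7031160923a168843212330462f1f95ce302806c458248e85a210c8481a0802004050685c422b1d93cd28552af4010092897000003f20400000b85f000002814c00000984f000002412c00000643500000170c400000542d000000c06c000002817000000402c00000080700000))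
  (.leaf (nat_lit 0xc0838000142b7f05c0105846ee0f802050fdf4070040b70bd80006dd6f20001acdb78120082c376f63c01045c6e40001a23b687e008144f6b0fc0102896d20c8020518d982b004111fb1b2a0082c6b630b40104592c20001a99af8520082c8b5d10401029e2b739802057ad643d0040a5dab8aa0082db55767c0104376aa288020b3bd4c750040b4aa88e2008152b4f86c0105b7a9e4a8020859d34c90040ab24a1d8b8441a0919823178fcae71a21b8a83e170899a251a914ba774bd2d0101407495000002ad68ea1802055a258ec5c220d048cc118bc7e5738d10dc541f34670ce1dc30ca8180602)))
  (.node (.leaf (nat_lit 0x50e80000168d9f5060082278c30000847ced1b00416aa9b9c600815d13537c0102ccc800000a8a9895e0082d11312ac01040f65e4180205364b47f0040a51958c60082db12b17c01041ae52238020543c9c3300410fd9284600815212364401059ca4212802052c47439004111b698000410a3426802051bc65a500416478b91200814c3152f401041ee2678802054dc453100416ef87bd200815050b3fc01044249800016668419600815a90726c010418e0a3b80205))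
  (.leaf (nat_lit 0x3fe003fe003fe003fe003fe003fe003fe003fe003fe003fe003fe003fe003fe003fe003fe003fe003fe003fe003fe003fe003fe003fe003ff94030000463b279180205026400f8e026400f8e026400f8e026400f8e026400f8e026400f8e026400f8e026400f8e026400f8e026400f8e026400f8e0264200007180200005c5e14000141788034010461b1184802056361991856361991856361991856361991856361991856361991856361991856361991856361991856361991856361991856361a00007040c00005)))
def jtc_N : Tr := .node (.node (.node (.node (.leaf (nat_lit 2114))
  (.leaf (nat_lit 98)))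
  (.node (.leaf (nat_lit 33))
  (.leaf (nat_lit 2051))))
  (.node (.node (.leaf (nat_lit 0x104611046110461104611046110461))
  (.leaf (nat_lit 67)))
  (.node (.leaf (nat_lit 1025))
  (.leaf (nat_lit 0)))))
  (.node (.node (.node (.leaf (nat_lit 0x411044110441104411044110441104411044110441104411044110441))
  (.leaf (nat_lit 3074)))
  (.node (.leaf (nat_lit 33))
  (.leaf (nat_lit 0))))
  (.node (.node (.leaf (nat_lit 0x18441184411844110461104611046110441))
  (.leaf (nat_lit 67)))
  (.leaf (nat_lit 98))))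
noncomputable def jtc : TC :=
  ⟨[.l 0, .l 1, .l 2, .l 3],
    (nat_lit 7), (nat_lit 9), (nat_lit 68640), (nat_lit 1), (nat_lit 99), (nat_lit 0), (nat_lit 32), (nat_lit 4), (nat_lit 15),
    get (nat_lit 10) (nat_lit 0x400c0400c02010030080400c02070180b803), Tr.get jtc_N, get (nat_lit 20) (nat_lit 0x3ff003ff003ff003ff003ff003ff003ff003ff003ff003ff003ff00003000020000100000),
    Tr.get3 jtc_F (nat_lit 24) (nat_lit 5), Tr.get3 jtc_T (nat_lit 7) (nat_lit 7), Tr.get jtc_P⟩

theorem jtc_head : jtc.headOK jrels jiv = true := by decide +kernel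

theorem jtc_b0 : allFrom (nat_lit 0) (nat_lit 4) jtc.blockOK = true := by decide +kernel

theorem jtc_blocks : ∀ t < jtc.k, jtc.blockOK t = true :=
  (of_allFrom_append of_lt_zero jtc_b0)

theorem jtc_mem0 {G : Type*} [Group G] {γ : ℕ → G} (hL : Lab γ jiv) (hr : ∀ t ∈ jrels, t.ev γ = 1) {K : Subgroup G}
    (hK : ∀ t ∈ ([] : List W), t.ev γ ∈ K) :
    W.ev γ (.l 1) ∈ K :=
  TC.mem (D := jtc) hL (List.forall_mem_cons.2 ⟨hL.zero_mem K, hK⟩) hr jtc_head jtc_blocks
    (n := (nat_lit 1)) (w := (nat_lit 1)) (st := (nat_lit 400)) (by decide +kernel) (by decide +kernel)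

theorem jtc_mem1 {G : Type*} [Group G] {γ : ℕ → G} (hL : Lab γ jiv) (hr : ∀ t ∈ jrels, t.ev γ = 1) {K : Subgroup G}
    (hK : ∀ t ∈ ([] : List W), t.ev γ ∈ K) :
    W.ev γ (.l 2) ∈ K :=
  TC.mem (D := jtc) hL (List.forall_mem_cons.2 ⟨hL.zero_mem K, hK⟩) hr jtc_head jtc_blocks
    (n := (nat_lit 1)) (w := (nat_lit 2)) (st := (nat_lit 406)) (by decide +kernel) (by decide +kernel)

def jtc_loops : List W := [.l 1, .l 2]

theorem jtc_mems {G : Type*} [Group G] {γ : ℕ → G} (hL : Lab γ jiv) (hr : ∀ t ∈ jrels, t.ev γ = 1) {K : Subgroup G}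
    (hK : ∀ t ∈ ([] : List W), t.ev γ ∈ K) :
    ∀ t ∈ jtc_loops, t.ev γ ∈ K :=
  List.forall_mem_cons.2 ⟨jtc_mem0 hL hr hK,
    List.forall_mem_cons.2 ⟨jtc_mem1 hL hr hK,
    fun _ h => absurd h List.not_mem_nil⟩⟩

/-- No elements of order four. -/
def No4 (G : Type*) [Group G] : Prop := ∀ g : G, g ^ 4 = 1 → g ^ 2 = 1

theorem No4.congr {G H : Type*} [Group G] [Group H] (h : No4 G) (e : G ≃* H) : No4 H := fun g hg => by
  have := h (e.symm g) (by rw [← map_pow, hg, map_one])
  rwa [← map_pow, e.symm.map_eq_one_iff] at this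

section
variable {G : Type*} [Group G]

theorem eq_one_of_cop {x : G} {m n : ℕ} (h1 : x ^ m = 1) (h2 : x ^ n = 1) (h : m.Coprime n) : x = 1 := by
  have := Nat.dvd_gcd (orderOf_dvd_of_pow_eq_one h1) (orderOf_dvd_of_pow_eq_one h2)
  rwa [h, Nat.dvd_one, orderOf_eq_one_iff] at this

theorem j4_col {x y : G} (h1 : x ^ 2 = 1) (h2 : y ^ 3 = 1) (h3 : (x * y) ^ 23 = 1)
    (h4 : (x⁻¹ * y⁻¹ * x * y) ^ 6 = 1) (h5 : (x * y * (x * y * x * y⁻¹) ^ 3) ^ 2 = 1) : x = 1 ∧ y = 1 := by
  have hL : Lab (fun c => (1 :: [x, y, y⁻¹]).getD c 1) jiv :=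
    Lab.of_list (by decide : jiv < 2 ^ (5 * 4)) fun c hc => by
      have hc : c < 4 := hc
      interval_cases c
      · exact one_mul _
      · exact (sq x).symm.trans h1
      · exact inv_mul_cancel y
      · exact mul_inv_cancel y
  have hr : ∀ t ∈ jrels, t.ev (fun c => (1 :: [x, y, y⁻¹]).getD c 1) = 1 := by
    simp only [jrels, List.forall_mem_cons]
    exact ⟨h2, h3, h4, h5, fun _ h => absurd h List.not_mem_nil⟩
  exact ⟨Subgroup.mem_bot.1 (jtc_mem0 hL hr fun _ h => absurd h List.not_mem_nil),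
    Subgroup.mem_bot.1 (jtc_mem1 hL hr fun _ h => absurd h List.not_mem_nil)⟩

theorem eq_of_three_two {x y : G} (hy : (y * y) ^ 1 = 1) (h3 : (x * y) ^ 3 = 1) (h2 : (x * y) ^ 2 = 1) : x = y := by
  have := eq_one_of_cop h3 h2 (by norm_num)
  rw [pow_one] at hy
  rw [eq_inv_of_mul_eq_one_left this, eq_inv_of_mul_eq_one_left hy, inv_inv]
  exact (eq_inv_of_mul_eq_one_left hy)

theorem sq_abc {a b c : G} (ha : (a * a) ^ 1 = 1) (hb : (b * b) ^ 1 = 1) (hc : (c * c) ^ 1 = 1)
    (hab : (a * b) ^ 3 = 1) (hbc : (b * c) ^ 3 = 1) (hac : (a * c) ^ 2 = 1) :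
    (a * b * c) ^ 2 = b * (a * c) * b⁻¹ := by
  rw [pow_one] at ha hb hc
  have ia := eq_inv_of_mul_eq_one_left ha
  have ib := eq_inv_of_mul_eq_one_left hb
  have ic := eq_inv_of_mul_eq_one_left hc
  have e1 : c * a = a * c := by
    have : a * c * (a * c) = 1 := by rw [← hac, sq]
    rw [eq_inv_of_mul_eq_one_left this, mul_inv_rev, ← ia, ← ic]
  have e2 : a * b * a = b * a * b := by
    have : a * b * a * (b * a * b) = 1 := by rw [← hab]; simp only [pow_succ, pow_zero, one_mul, mul_assoc]
    rw [eq_inv_of_mul_eq_one_left this]; simp only [mul_inv_rev, ← ia, ← ib, mul_assoc]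
  have e3 : c * b * c = b * c * b := by
    have : b * c * b * (c * b * c) = 1 := by rw [← hbc]; simp only [pow_succ, pow_zero, one_mul, mul_assoc]
    rw [eq_inv_of_mul_eq_one_right this]; simp only [mul_inv_rev, ← ic, ← ib, mul_assoc]
  calc (a * b * c) ^ 2 = a * b * (c * a) * b * c := by simp only [sq, mul_assoc]
    _ = (a * b * a) * (c * b * c) := by rw [e1]; simp only [mul_assoc]
    _ = b * a * (b * b) * c * b := by rw [e2, e3]; simp only [mul_assoc]
    _ = _ := by rw [hb, ← ib]; simp only [mul_assoc, one_mul]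

end

section
variable {α : Type} [DecidableEq α] {edges : List (α × ℕ × α)} {extra : List (FreeGroup α)}

theorem cox_rel (x y : α) (hx : x ∈ coxNodes edges) (hy : y ∈ coxNodes edges) {n : ℕ}
    (h : coxLabel edges x y = n) :
    ((PresentedGroup.of x : CoxPresented α edges extra) * PresentedGroup.of y) ^ n = 1 := by
  have := PresentedGroup.one_of_mem (rels := coxRelators edges ∪ {r | r ∈ extra})
    (Or.inl ⟨x, hx, y, hy, rfl⟩)
  rwa [h, map_pow, map_mul] at this

theorem ext_rel {r : FreeGroup α} (h : r ∈ extra) :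
    (PresentedGroup.mk _ r : CoxPresented α edges extra) = 1 :=
  PresentedGroup.one_of_mem (rels := coxRelators edges ∪ {r | r ∈ extra}) (Or.inr h)

theorem comm_of_eq (z : CoxPresented α edges extra)
    (h : ∀ x, (PresentedGroup.of x : CoxPresented α edges extra) ∈ Subgroup.zpowers z) :
    IsMulCommutative (CoxPresented α edges extra) := by
  have := fun g => PresentedGroup.generated_by _ _ h g
  refine ⟨⟨fun a b => ?_⟩⟩
  obtain ⟨m, rfl⟩ := this a
  obtain ⟨n, rfl⟩ := this b
  exact (zpow_mul_comm ..)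

end

theorem j4_gen {G : Type*} [Group G] (f : FreeGroup J4.Gen →* G) (hf : ∀ r ∈ J4.extra, f r = 1) (h : No4 G)
    (x : J4.Gen) : f (.of x) = 1 := by
  simp only [J4.extra, List.forall_mem_cons, map_pow, map_mul, map_inv] at hf
  obtain ⟨h0, h1, h2, h3, -, h5, -, h7, -, -, h10, -⟩ := hf
  obtain ⟨hx, hy⟩ := j4_col h0 h1 h2 (by
    have := h _ (by rw [← pow_mul]; exact h3 : ((_ : G) ^ 3) ^ 4 = 1)
    rwa [← pow_mul] at this) (h _ h5)
  rw [hx, hy] at h10
  have ht := eq_one_of_cop h7 (by simpa using h10) (by norm_num : Nat.Coprime 2 3)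
  cases x
  exacts [hx, hy, ht]

theorem j4_comm (h : No4 Spor.J4) : IsMulCommutative Spor.J4 :=
  comm_of_eq 1 fun x => by
    rw [show PresentedGroup.of x = 1 from j4_gen _ (fun _ => ext_rel) h x]; exact one_mem _

theorem th_gen {G : Type*} [Group G] (f : FreeGroup Th.Gen →* G) (hf : ∀ r ∈ Th.extra, f r = 1) (h : No4 G)
    (x : Th.Gen) : f (.of x) = 1 := by
  simp only [Th.extra, List.forall_mem_cons, map_pow, map_mul, map_inv] at hf
  obtain ⟨h0, h1, h2, h3, -, h5, -, h7, -, -, h10, -, h12, -, h14, -, -, -, h18, -, h20, -, -, -, -, -, -, h27,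
    -, -, -, -, h32, -, h34, -, h36, -⟩ := hf
  rw [mul_inv_eq_one] at h10
  have ha : f Th.a = 1 := by
    have := h _ (by rw [← pow_mul, show 2 * 4 = 4 * 2 from rfl, pow_mul, ← h10]; exact h0 :
      ((f Th.c * f Th.d) ^ 2) ^ 4 = 1)
    rw [← pow_mul] at this
    exact h10.trans this
  rw [ha, one_mul] at h5
  have hb := eq_one_of_cop h1 h5 (by norm_num)
  rw [hb, one_mul] at h7
  have hc := eq_one_of_cop h2 h7 (by norm_num)
  rw [ha, hc] at h27 h32 h36
  have he : f Th.e = 1 := by simpa [hb] using h32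
  rw [he, mul_one] at h12
  have hd := eq_one_of_cop h3 h12 (by norm_num)
  rw [hd, mul_one] at h18
  have hs := eq_one_of_cop h14 h18 (by norm_num)
  rw [hs] at h36
  have hu : f Th.u = 1 := eq_one_of_cop (m := 2) (n := 3) (by simpa using h27) (by simpa using h36) (by norm_num)
  rw [hu] at h34
  have ht := eq_one_of_cop (n := 2) h20 (by simpa [sq] using h34) (by norm_num)
  cases x
  exacts [ha, hb, hc, hd, he, hs, ht, hu]

theorem th_comm (h : No4 Spor.Th) : IsMulCommutative Spor.Th :=
  comm_of_eq 1 fun x => by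
    rw [show PresentedGroup.of x = 1 from th_gen _ (fun _ => ext_rel) h x]; exact one_mem _

section
variable {α : Type} [DecidableEq α] {edges : List (α × ℕ × α)} {extra : List (FreeGroup α)}

/-- If `x = x'`, `x` is joined to `y` and `x'` commutes with `y`, then `x = y`. -/
theorem cox_step {x x' y : α}
    (e : (PresentedGroup.of x : CoxPresented α edges extra) = PresentedGroup.of x')
    (h : (x ∈ coxNodes edges ∧ x' ∈ coxNodes edges ∧ y ∈ coxNodes edges) ∧ coxLabel edges x y = 3 ∧
      coxLabel edges x' y = 2) :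
    (PresentedGroup.of x : CoxPresented α edges extra) = PresentedGroup.of y :=
  eq_of_three_two (cox_rel y y h.1.2.2 h.1.2.2 (by simp [coxLabel])) (cox_rel x y h.1.1 h.1.2.2 h.2.1)
    (e ▸ cox_rel x' y h.1.2.1 h.1.2.2 h.2.2)

theorem cox_commute {x y : α}
    (h : (x ∈ coxNodes edges ∧ y ∈ coxNodes edges) ∧ coxLabel edges x y = 2) :
    Commute (PresentedGroup.of x : CoxPresented α edges extra) (PresentedGroup.of y) := by
  have h1 := cox_rel (extra := extra) x x h.1.1 h.1.1 (n := 1) (by simp [coxLabel])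
  have h2 := cox_rel (extra := extra) y y h.1.2 h.1.2 (n := 1) (by simp [coxLabel])
  have h3 := cox_rel (extra := extra) x y h.1.1 h.1.2 h.2
  rw [pow_one] at h1 h2
  rw [sq] at h3
  rw [Commute, SemiconjBy, eq_inv_of_mul_eq_one_left h3, mul_inv_rev, ← eq_inv_of_mul_eq_one_left h1,
    ← eq_inv_of_mul_eq_one_left h2]

theorem cox_ab {x y : α}
    (h : (x ∈ coxNodes edges ∧ y ∈ coxNodes edges) ∧ coxLabel edges x y = 3) :
    Abelianization.of (PresentedGroup.of x : CoxPresented α edges extra) = Abelianization.of (PresentedGroup.of y) := by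
  have h1 := congrArg Abelianization.of (cox_rel (extra := extra) x x h.1.1 h.1.1 (n := 1) (by simp [coxLabel]))
  have h2 := congrArg Abelianization.of (cox_rel (extra := extra) y y h.1.2 h.1.2 (n := 1) (by simp [coxLabel]))
  have h3 := congrArg Abelianization.of (cox_rel (extra := extra) x y h.1.1 h.1.2 h.2)
  rw [map_pow, map_mul, map_one] at h1 h2 h3
  refine eq_of_three_two h2 h3 ?_
  rw [pow_one] at h1 h2
  rw [mul_pow, sq, sq, h1, h2, one_mul]

theorem cox_sq {a b c : α}
    (h : (a ∈ coxNodes edges ∧ b ∈ coxNodes edges ∧ c ∈ coxNodes edges) ∧ coxLabel edges a b = 3 ∧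
      coxLabel edges b c = 3 ∧ coxLabel edges a c = 2) :
    ((PresentedGroup.of a * PresentedGroup.of b * PresentedGroup.of c : CoxPresented α edges extra) ^ 2) ^ 2 = 1 ∧
      ((PresentedGroup.of a * PresentedGroup.of b * PresentedGroup.of c : CoxPresented α edges extra) ^ 2 = 1 →
        (PresentedGroup.of a : CoxPresented α edges extra) = PresentedGroup.of c) := by
  obtain ⟨⟨ha, hb, hc⟩, h1, h2, h3⟩ := h
  have hcc := cox_rel (extra := extra) c c hc hc (n := 1) (by simp [coxLabel])
  have hac := cox_rel (extra := extra) a c ha hc h3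
  rw [sq_abc (cox_rel a a ha ha (by simp [coxLabel])) (cox_rel b b hb hb (by simp [coxLabel])) hcc
    (cox_rel a b ha hb h1) (cox_rel b c hb hc h2) hac]
  refine ⟨by rw [conj_pow, hac, mul_one, mul_inv_cancel], fun e => ?_⟩
  rw [conj_eq_one_iff] at e
  rw [pow_one] at hcc
  exact (eq_inv_of_mul_eq_one_left e).trans (eq_inv_of_mul_eq_one_left hcc).symm

end

theorem b_comm (h : No4 Spor.BabyMonster) : IsMulCommutative Spor.BabyMonster := by
  have k := cox_sq (edges := BabyMonster.edges) (extra := BabyMonster.extra) (a := .t1) (b := .t2) (c := .t3)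
    (by decide)
  have e13 := k.2 (h _ (by rw [show 4 = 2 * 2 from rfl, pow_mul]; exact k.1))
  have e34 := cox_step (y := .t4) e13.symm (by decide)
  have e14 := e13.trans e34
  have e12 := cox_step (y := .t2) e14 (by decide)
  have e15 := e14.trans (cox_step (y := .t5) e14.symm (by decide))
  have e16 := e15.trans (cox_step (y := .t6) e15.symm (by decide))
  have e17 := e16.trans (cox_step (y := .t7) e16.symm (by decide))
  have e18 := e17.trans (cox_step (y := .t8) e17.symm (by decide))
  have e19 := e15.trans (cox_step (y := .t9) e15.symm (by decide))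
  have e110 := e19.trans (cox_step (y := .t10) e19.symm (by decide))
  have e111 := e110.trans (cox_step (y := .t11) e110.symm (by decide))
  refine comm_of_eq (PresentedGroup.of .t1) fun x => ?_
  cases x
  exacts [Subgroup.mem_zpowers _, e12 ▸ Subgroup.mem_zpowers _, e13 ▸ Subgroup.mem_zpowers _,
    e14 ▸ Subgroup.mem_zpowers _, e15 ▸ Subgroup.mem_zpowers _, e16 ▸ Subgroup.mem_zpowers _,
    e17 ▸ Subgroup.mem_zpowers _, e18 ▸ Subgroup.mem_zpowers _, e19 ▸ Subgroup.mem_zpowers _,
    e110 ▸ Subgroup.mem_zpowers _, e111 ▸ Subgroup.mem_zpowers _]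

theorem m_comm (h : No4 Spor.Monster) : IsMulCommutative Spor.Monster := by
  have k := cox_sq (edges := Bimonster.edges) (extra := Bimonster.extra) (a := .c1) (b := .d1) (c := .e1)
    (by decide)
  have C : ∀ x y : Bimonster.Gen, (x ∈ coxNodes Bimonster.edges ∧ y ∈ coxNodes Bimonster.edges) ∧
      coxLabel Bimonster.edges x y = 2 → Commute (PresentedGroup.of x : Spor.Bimonster) (PresentedGroup.of y) :=
    fun x y hxy => cox_commute hxy
  have J : ∀ x y : Bimonster.Gen, (x ∈ coxNodes Bimonster.edges ∧ y ∈ coxNodes Bimonster.edges) ∧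
      coxLabel Bimonster.edges x y = 3 → Abelianization.of (PresentedGroup.of x : Spor.Bimonster) =
        Abelianization.of (PresentedGroup.of y) := fun x y hxy => cox_ab hxy
  set c1 : Spor.Bimonster := PresentedGroup.of .c1
  set d1 : Spor.Bimonster := PresentedGroup.of .d1
  set e1 : Spor.Bimonster := PresentedGroup.of .e1
  set c2 : Spor.Bimonster := PresentedGroup.of .c2
  have h22 : c2 ^ 2 = 1 := by
    rw [sq, ← pow_one (c2 * c2)]; exact cox_rel _ _ (by decide) (by decide) (by decide)
  have hu : c1 * d1 * e1 * c2 ∈ Subgroup.centralizer {(PresentedGroup.of Bimonster.Gen.a : Spor.Bimonster)} ⊓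
      commutator Spor.Bimonster := by
    refine Subgroup.mem_inf.2 ⟨Subgroup.mem_centralizer_singleton_iff.2 (Commute.eq ?_), ?_⟩
    · exact (((C _ _ (by decide)).mul_left (C _ _ (by decide))).mul_left (C _ _ (by decide))).mul_left
        (C _ _ (by decide))
    · have e : Abelianization.of c1 = Abelianization.of c2 :=
        (J .b1 .c1 (by decide)).symm.trans ((J .a .b1 (by decide)).symm.trans
          ((J .a .b2 (by decide)).trans (J .b2 .c2 (by decide))))
      rw [← Abelianization.ker_of, MonoidHom.mem_ker, map_mul, map_mul, map_mul,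
        ← J .d1 .e1 (by decide), ← J .c1 .d1 (by decide), e, ← sq, mul_assoc, ← sq, ← map_pow, h22, map_one,
        one_mul]
  have hs : (c1 * d1 * e1 * c2) ^ 2 = (c1 * d1 * e1) ^ 2 := by
    rw [(((C _ _ (by decide)).mul_left (C _ _ (by decide))).mul_left (C _ _ (by decide)) :
      Commute (c1 * d1 * e1) c2).mul_pow, h22, mul_one]
  have e0 : c1 = e1 := k.2 (hs ▸ congrArg Subtype.val (h ⟨_, hu⟩ (Subtype.ext (by
    change (c1 * d1 * e1 * c2) ^ (2 * 2) = 1
    rw [pow_mul, hs]; exact k.1))))
  have cb := cox_step (y := .b1) e0 (by decide)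
  have ba := cox_step (y := .a) cb.symm (by decide)
  have S : ∀ x y : Bimonster.Gen, (PresentedGroup.of x : Spor.Bimonster) = c1 →
      ((x ∈ coxNodes Bimonster.edges ∧ .c1 ∈ coxNodes Bimonster.edges ∧ y ∈ coxNodes Bimonster.edges) ∧
        coxLabel Bimonster.edges x y = 3 ∧ coxLabel Bimonster.edges .c1 y = 2) →
      (PresentedGroup.of y : Spor.Bimonster) = c1 := fun x y e hh => (cox_step e hh).symm.trans e
  have ea := ba.symm.trans cb.symm
  have b2 := S _ .b2 ea (by decide)
  have b3 := S _ .b3 ea (by decide)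
  have c2' := S _ .c2 b2 (by decide)
  have c3 := S _ .c3 b3 (by decide)
  have d2 := S _ .d2 c2' (by decide)
  have d3 := S _ .d3 c3 (by decide)
  have e2 := S _ .e2 d2 (by decide)
  have e3 := S _ .e3 d3 (by decide)
  have : IsMulCommutative Spor.Bimonster := by
    refine comm_of_eq c1 fun x => ?_
    have : (PresentedGroup.of x : Spor.Bimonster) = c1 := by
      cases x
      exacts [ea, cb.symm, rfl, (cox_step (y := .d1) ea.symm (by decide)).symm, e0.symm,
        S _ .f1 e0.symm (by decide), b2, c2', d2, e2, S _ .f2 e2 (by decide), b3, c3, d3, e3,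
        S _ .f3 e3 (by decide)]
    exact this ▸ Subgroup.mem_zpowers _
  infer_instance

end Cfsg.Lib.KList
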